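import Cfsg.Agent.Mrg.Omega.IId.Big.SylB
import Cfsg.Agent.Mrg.Omega.IId.SideOf
import Cfsg.Agent.Lib.GoldschmidtFusion

section


/-!
# CvBig (ii), `q = 2` (bb OMEGA 21130, helper165): the element `t`

`Sv S Q V v i y g₀` : (SURV): `y ∈ Ω₁Z(Q)` commutes with `⟨W_p : p ∈ V i⟩` and `T = C_S(v i)`, `c = v i * y = v i ^ g₀`.

* `Sv.exists_t` : there is `t ∈ W_c`, `t ∈ N(T) - T`, `t² ∈ T`;
* `Sv.KT_V`, `Sv.KT_fix` : `W_c ∩ T` centralises `V i` and fixes all `v m`.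
-/

set_option autoImplicit false
set_option linter.unusedSectionVars false

namespace Cfsg.Agent.Omega.IId.Surv

open Subgroup Cfsg
open Cfsg.Agent.ZN (o2 zc)
open Cfsg.Agent.MinSimple.VModule (le_o2 le_normalizer_o2 mem_zc o2_isPGroup o2_le)
open Triangle (KK KK_conj KK_le_o2 mem_cent mem_KK mem_zpowers_iff_of_sq cent_conj o2_cent_conj)
open Big (Fr Vo cz qz conj_mem norm_of comm_of_conj conj_of_comm isPGroup_of_sq le_Vo Vo_le cent_of_closure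
  norm_o2 le_o2_of sq_of_closure)
open Big.Syl (YY mem_YY YY_le exists_conj_le)

universe u

variable {G : Type u} [Group G]

/-- (SURV) -/
structure Sv [Finite G] {ι : Type} (S : Sylow 2 G) (Q : Subgroup G) (V : ι → Subgroup G) (v : ι → G) (i : ι)
    (y g₀ : G) : Prop where
  sd : Sd (S : Subgroup G) Q V v
  hy : y ∈ zc Q
  y1 : y ≠ 1
  yX : y ∈ CX V i
  yT : ∀ t ∈ (S : Subgroup G), t * v i = v i * t → t * y = y * t
  gv : g₀ * v i * g₀⁻¹ = v i * y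
  gy : g₀ * y * g₀⁻¹ = y
  gF : g₀ ∈ normalizer ((V i ⊔ zpowers y : Subgroup G) : Set G)

theorem exists_sq {T : Subgroup G} {t₀ : G} (h0 : t₀ ∉ T) (h : ∃ n : ℕ, t₀ ^ 2 ^ n ∈ T) :
    ∃ m : ℕ, t₀ ^ 2 ^ m ∉ T ∧ t₀ ^ 2 ^ m * t₀ ^ 2 ^ m ∈ T := by
  classical
  have hpos : 0 < Nat.find h := by
    rw [Nat.find_pos]
    simpa using h0
  refine ⟨Nat.find h - 1, Nat.find_min h (by omega), ?_⟩
  have h1 := Nat.find_spec h
  rw [← pow_add, ← two_mul, ← pow_succ', Nat.sub_add_cancel hpos]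
  exact h1

namespace Sv

variable [Finite G] {ι : Type} {S : Sylow 2 G} {Q : Subgroup G} {V : ι → Subgroup G} {v : ι → G} {i : ι}
  {y g₀ : G} (h : Sv S Q V v i y g₀)
include h

theorem vy : v i * y = y * v i := h.sd.zq_mul_comm (h.sd.v_zq i) h.hy

theorem cz' : v i * y ∈ zc Q := mul_mem (h.sd.v_zq i) h.hy

theorem cc : v i * y * (v i * y) = 1 := h.sd.zq_sq h.cz'

theorem c_notCX : v i * y ∉ CX V i := fun hc => h.sd.v_notCX i (by
  have h1 := mul_mem hc (inv_mem h.yX)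
  rwa [mul_inv_cancel_right] at h1)

theorem y_notV : y ∉ V i := fun hy => h.y1 (h.sd.eq_one_of_CX hy h.yX)

theorem c_notV : v i * y ∉ V i := fun hc => h.y_notV (by
  have h1 := mul_mem (inv_mem (h.sd.vV i)) hc
  rwa [inv_mul_cancel_left] at h1)

theorem qz_conj {x : G} (hx : x ∈ qz (v i)) : g₀ * x * g₀⁻¹ ∈ qz (v i * y) := by
  have h1 : qz (v i * y) = (qz (v i)).map (MulAut.conj g₀).toMonoidHom := by
    have := o2_cent_conj g₀ (v i)
    rwa [h.gv] at this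
  rw [h1]
  exact ⟨x, hx, rfl⟩

theorem qz_conj' {x : G} (hx : x ∈ qz (v i * y)) : g₀⁻¹ * x * g₀ ∈ qz (v i) := by
  have h1 : qz (v i * y) = (qz (v i)).map (MulAut.conj g₀).toMonoidHom := by
    have := o2_cent_conj g₀ (v i)
    rwa [h.gv] at this
  rw [h1] at hx
  obtain ⟨z, hz, rfl⟩ := hx
  have e : g₀⁻¹ * ((MulAut.conj g₀).toMonoidHom z) * g₀ = z := by
    show g₀⁻¹ * (g₀ * z * g₀⁻¹) * g₀ = z
    group
  rw [e]
  exact hz

theorem KK_conj1 {x : G} (hx : x ∈ KK (v i)) : g₀ * x * g₀⁻¹ ∈ KK (v i * y) := by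
  have h1 := KK_conj (h := g₀) hx
  rwa [h.gv] at h1

theorem KK_conj2 {x : G} (hx : x ∈ KK (v i * y)) : g₀⁻¹ * x * g₀ ∈ KK (v i) := by
  have h1 := KK_conj (h := g₀⁻¹) hx
  have e : g₀⁻¹ * (v i * y) * g₀⁻¹⁻¹ = v i := by rw [← h.gv]; group
  rwa [e, inv_inv] at h1

theorem KKc_le : KK (v i * y) ≤ qz (v i * y) := by
  intro k hk
  have h1 := h.qz_conj (h.sd.fr.KK_le_q (h.sd.vV i) (h.sd.v1 i) (h.KK_conj2 hk))
  have e : g₀ * (g₀⁻¹ * k * g₀) * g₀⁻¹ = k := by group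
  rwa [e] at h1

theorem qzc_y {r : G} (hr : r ∈ qz (v i * y)) : r * y = y * r := by
  have h1 := h.sd.comm_qz (h.sd.vV i) (h.sd.v1 i) h.hy (h.yX (v i) (h.sd.vV i) (h.sd.v1 i)) (h.qz_conj' hr)
  have e : y = g₀⁻¹ * y * g₀ := by
    calc y = g₀⁻¹ * (g₀ * y * g₀⁻¹) * g₀ := by group
      _ = g₀⁻¹ * y * g₀ := by rw [h.gy]
  calc r * y = g₀ * (g₀⁻¹ * r * g₀ * (g₀⁻¹ * y * g₀)) * g₀⁻¹ := by group
    _ = g₀ * (g₀⁻¹ * r * g₀ * y) * g₀⁻¹ := by rw [← e]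
    _ = g₀ * (y * (g₀⁻¹ * r * g₀)) * g₀⁻¹ := by rw [h1]
    _ = (g₀ * y * g₀⁻¹) * r := by group
    _ = y * r := by rw [h.gy]

theorem qzc_v {r : G} (hr : r ∈ qz (v i * y)) : r * v i = v i * r := by
  have h1 : r * (v i * y) = v i * y * r := mem_cent.1 (o2_le _ hr)
  have h2 := h.qzc_y hr
  have h3 : r * v i * y = v i * r * y := by
    calc r * v i * y = r * (v i * y) := by group
      _ = v i * (y * r) := by rw [h1]; group
      _ = v i * r * y := by rw [← h2]; group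
  exact mul_right_cancel h3

/-- the action of `W_c` on `Q_c` -/
theorem act {k x : G} (hk : k ∈ KK (v i * y)) (hx : x ∈ qz (v i * y)) :
    k * x * k⁻¹ = x ∨ k * x * k⁻¹ = v i * y * x := by
  rcases (mem_zpowers_iff_of_sq h.cc).1 ((mem_KK.1 hk).2 x hx) with h1 | h1
  · left; exact mul_inv_eq_one.1 h1
  · right; exact mul_inv_eq_iff_eq_mul.1 h1

theorem F_le : (V i ⊔ zpowers y : Subgroup G) ≤ qz (v i) :=
  sup_le (h.sd.fr.VQ i i _ (h.sd.vV i) (h.sd.v1 i))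
    ((zpowers_le).2 (h.sd.zq_q (h.sd.vV i) (h.sd.v1 i) h.hy))

theorem V_qc : V i ≤ qz (v i * y) := by
  intro e he
  have h1 : g₀⁻¹ * e * g₀ ∈ (V i ⊔ zpowers y : Subgroup G) := by
    have := (mem_normalizer_iff.1 (inv_mem h.gF) e).1 (mem_sup_left he)
    rwa [inv_inv] at this
  have h2 := h.qz_conj (h.F_le h1)
  have e1 : g₀ * (g₀⁻¹ * e * g₀) * g₀⁻¹ = e := by group
  rwa [e1] at h2

omit h in
/-- elements which commute with `c` normalise `W_c` -/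
theorem conjK {x k : G} (hx : x * (v i * y) = v i * y * x) (hk : k ∈ KK (v i * y)) :
    x * k * x⁻¹ ∈ KK (v i * y) := by
  have h1 := KK_conj (h := x) hk
  rwa [conj_of_comm hx] at h1

theorem T_c {x : G} (hx : x ∈ (S : Subgroup G) ⊓ cz (v i)) : x * (v i * y) = v i * y * x := by
  have h1 : x * v i = v i * x := mem_cent.1 hx.2
  calc x * (v i * y) = (x * v i) * y := by group
    _ = v i * (x * y) := by rw [h1]; group
    _ = v i * y * x := by rw [h.yT x hx.1 h1]; group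

theorem zq_c {x : G} (hx : x ∈ zc Q) : x * (v i * y) = v i * y * x := h.sd.zq_mul_comm hx h.cz'

theorem Q_T : Q ≤ (S : Subgroup G) ⊓ cz (v i) := fun q hq =>
  ⟨h.sd.QS hq, mem_cent.2 (h.sd.QV i _ (h.sd.vV i) q hq)⟩

theorem Q_c {q : G} (hq : q ∈ Q) : q * (v i * y) = v i * y * q := h.T_c (h.Q_T hq)

theorem T_V {x e : G} (hx : x ∈ (S : Subgroup G) ⊓ cz (v i)) (he : e ∈ V i) : x * e * x⁻¹ ∈ V i :=
  h.sd.fix_line hx.1 (mem_cent.1 hx.2) he

/-- `W_c ∩ T` centralises `V i` -/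
theorem KT_V {k e : G} (hk : k ∈ KK (v i * y)) (hkT : k ∈ (S : Subgroup G) ⊓ cz (v i)) (he : e ∈ V i) :
    k * e = e * k := by
  rcases h.act hk (h.V_qc he) with h1 | h1
  · exact comm_of_conj h1
  · exfalso
    have h2 := h.T_V hkT he
    rw [h1] at h2
    exact h.c_notV ((mul_mem_cancel_right he).1 h2)

/-- `W_c` is not contained in `T` -/
theorem KK_not_le : ¬ KK (v i * y) ≤ (S : Subgroup G) ⊓ cz (v i) := by
  intro hle
  obtain ⟨e, he, he1, hve⟩ := h.sd.fr.exists_other (i := i) (v i)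
  obtain ⟨a, ha, hae⟩ := h.sd.fr.move (h.sd.vV i) he (h.sd.v1 i) he1 hve
  have hu := h.KK_conj1 ha
  have huT := hle hu
  have h1 : (V i ⊔ zpowers y : Subgroup G) ≤ cz (g₀ * a * g₀⁻¹) :=
    sup_le (fun x hx => mem_cent.2 (h.KT_V hu huT hx).symm)
      ((zpowers_le).2 (mem_cent.2 (h.qzc_y (h.KKc_le hu)).symm))
  have h2 : g₀ * e * g₀⁻¹ ∈ (V i ⊔ zpowers y : Subgroup G) :=
    (mem_normalizer_iff.1 h.gF e).1 (mem_sup_left he)
  have h3 := mem_cent.1 (h1 h2)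
  have h4 : a * e * a⁻¹ = e := by
    calc a * e * a⁻¹ = g₀⁻¹ * ((g₀ * a * g₀⁻¹) * (g₀ * e * g₀⁻¹)) * (g₀ * a⁻¹) := by group
      _ = g₀⁻¹ * ((g₀ * e * g₀⁻¹) * (g₀ * a * g₀⁻¹)) * (g₀ * a⁻¹) := by rw [h3]
      _ = e := by group
  rw [h4] at hae
  exact h.sd.v1 i (mul_eq_right.1 hae.symm)

theorem pow_mem_KK {k : G} (hk : k ∈ KK (v i * y)) : ∃ n : ℕ, k ^ 2 ^ n = 1 := by
  obtain ⟨n, hn⟩ := o2_isPGroup (cz (v i * y)) ⟨k, h.KKc_le hk⟩
  exact ⟨n, by simpa using congrArg Subtype.val hn⟩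

/-- **the element `t`** -/
theorem exists_t : ∃ t ∈ KK (v i * y), t ∉ (S : Subgroup G) ⊓ cz (v i) ∧
    t ∈ normalizer (((S : Subgroup G) ⊓ cz (v i) : Subgroup G) : Set G) ∧
      t * t ∈ (S : Subgroup G) ⊓ cz (v i) := by
  have hf : Fact (Nat.Prime 2) := ⟨Nat.prime_two⟩
  set T : Subgroup G := (S : Subgroup G) ⊓ cz (v i) with hT
  set W : Subgroup G := KK (v i * y) with hW
  have hW2 : IsPGroup 2 W := (o2_isPGroup _).to_le h.KKc_le
  have hT2 : IsPGroup 2 T := S.isPGroup'.to_le inf_le_left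
  have hTW : T ≤ normalizer (W : Set G) := norm_of fun x hx k hk => conjK (h.T_c hx) hk
  set A : Subgroup G := W ⊓ T with hA
  have hlt : A < W := lt_of_le_of_ne inf_le_left fun e => h.KK_not_le (inf_eq_left.1 e)
  have hlt2 := Lib.GoldschmidtFusion.lt_inf_normalizer hW2 hlt
  have hTA : T ≤ normalizer (A : Set G) := norm_of fun x hx k hk =>
    ⟨conj_mem hTW hx hk.1, T.mul_mem (T.mul_mem hx hk.2) (T.inv_mem hx)⟩
  obtain ⟨t₀, ht₀, ht₀A, ht₀T⟩ := SideOf.exists_fixed_mod (T := T) (not_le_of_gt hlt2) inf_le_right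
    (hW2.to_le inf_le_left) hT2 hTA (norm_of fun t ht x hx => ⟨conj_mem hTW ht hx.1,
      mul_mem (mul_mem (hTA ht) hx.2) ((normalizer (A : Set G)).inv_mem (hTA ht))⟩)
  have ht₀n : t₀ ∈ normalizer (T : Set G) := by
    rw [mem_normalizer_iff]
    intro x
    constructor
    · intro hx
      have e : t₀ * x * t₀⁻¹ = (x * t₀ * x⁻¹ * t₀⁻¹)⁻¹ * x := by group
      rw [e]
      exact mul_mem (inv_mem (ht₀T x hx).2) hx
    · intro hx
      have e : x = t₀⁻¹ * ((t₀ * x * t₀⁻¹) * t₀ * (t₀ * x * t₀⁻¹)⁻¹ * t₀⁻¹)  * t₀ * (t₀ * x * t₀⁻¹) := by group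
      have h1 := (ht₀T _ hx)
      have h2 := (mem_normalizer_iff.1 (inv_mem ht₀.2) _).1 h1
      rw [inv_inv] at h2
      rw [e]
      exact mul_mem h2.2 hx
  have ht₀T' : t₀ ∉ T := fun h0 => ht₀A ⟨ht₀.1, h0⟩
  obtain ⟨m, hm, hm2⟩ := exists_sq ht₀T' (by
    obtain ⟨n, hn⟩ := h.pow_mem_KK ht₀.1
    exact ⟨n, by rw [hn]; exact one_mem _⟩)
  exact ⟨t₀ ^ 2 ^ m, pow_mem ht₀.1 _, hm, pow_mem ht₀n _, hm2⟩

/-- **(1)**: `W_c ∩ T` fixes all `v m` -/
theorem KT_fix {k : G} (hk : k ∈ KK (v i * y)) (hkT : k ∈ (S : Subgroup G) ⊓ cz (v i)) (m : ι) :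
    k * v m = v m * k := by
  have hkv : k * v i = v i * k := mem_cent.1 hkT.2
  obtain ⟨m', hm', hvm⟩ := h.sd.perm k hkT.1 m
  by_cases hmm : m' = m
  · subst hmm
    exact comm_of_conj hvm
  exfalso
  have hmi : m ≠ i := by
    rintro rfl
    rw [conj_of_comm hkv] at hvm
    exact hmm (h.sd.v_inj hvm.symm)
  have hmi' : m' ≠ i := by
    rintro rfl
    have h1 : v m = v m' := by
      calc v m = k⁻¹ * (k * v m * k⁻¹) * k := by group
        _ = k⁻¹ * (v m' * k) := by rw [hvm]; group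
        _ = v m' := by rw [← hkv]; group
    exact hmm (h.sd.v_inj h1).symm
  obtain ⟨e, he, he1, hve⟩ := h.sd.fr.exists_other (i := m) (v m)
  obtain ⟨a, ha, hae⟩ := h.sd.fr.move (h.sd.vV m) he (h.sd.v1 m) he1 hve
  have haq := h.sd.fr.KK_le_q (h.sd.vV m) (h.sd.v1 m) ha
  have haT : a ∈ (S : Subgroup G) ⊓ cz (v i) :=
    ⟨h.sd.KS m ha, mem_cent.2 (h.sd.fr.Qc m i hmi.symm _ (h.sd.vV m) (h.sd.v1 m) a haq _ (h.sd.vV i))⟩
  have ha' : k * a * k⁻¹ ∈ KK (v m') := by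
    have := KK_conj (h := k) ha
    rwa [hvm] at this
  have haq' := h.sd.fr.KK_le_q (h.sd.vV m') (h.sd.v1 m') ha'
  have he' : k * e * k⁻¹ ∈ V m' := hm' e he
  have hae' : k * a * k⁻¹ * (k * e * k⁻¹) * (k * a * k⁻¹)⁻¹ = v m' * (k * e * k⁻¹) := by
    calc k * a * k⁻¹ * (k * e * k⁻¹) * (k * a * k⁻¹)⁻¹ = k * (a * e * a⁻¹) * k⁻¹ := by group
      _ = (k * v m * k⁻¹) * (k * e * k⁻¹) := by rw [hae]; group
      _ = v m' * (k * e * k⁻¹) := by rw [hvm]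
  -- the commutators in `W_c`
  have hb : a * (k * a⁻¹ * k⁻¹) ∈ KK (v i * y) := by
    have h1 := mul_mem (conjK (h.T_c haT) hk) (inv_mem hk)
    have e1 : a * k * a⁻¹ * k⁻¹ = a * (k * a⁻¹ * k⁻¹) := by group
    rwa [e1] at h1
  have hx : e * (k * e⁻¹ * k⁻¹) ∈ KK (v i * y) := by
    have h1 := mul_mem (conjK (h.zq_c (h.sd.V_zq m he)) hk) (inv_mem hk)
    have e1 : e * k * e⁻¹ * k⁻¹ = e * (k * e⁻¹ * k⁻¹) := by group
    rwa [e1] at h1
  obtain ⟨a', ea'⟩ : ∃ a', a' = k * a * k⁻¹ := ⟨_, rfl⟩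
  obtain ⟨e', ee'⟩ : ∃ e', e' = k * e * k⁻¹ := ⟨_, rfl⟩
  have e1 : a * (k * a⁻¹ * k⁻¹) = a * a'⁻¹ := by rw [ea']; group
  have e2 : e * (k * e⁻¹ * k⁻¹) = e * e'⁻¹ := by rw [ee']; group
  rw [← ea'] at ha' haq'
  rw [← ee'] at he'
  rw [← ea', ← ee'] at hae'
  rw [e1] at hb
  have hee' : e'⁻¹ = e' := inv_eq_of_mul_eq_one_left (h.sd.fr.sq m' e' he')
  rw [e2, hee'] at hx
  have c1 : a' * e = e * a' := h.sd.fr.Qc m' m (Ne.symm hmm) _ (h.sd.vV m') (h.sd.v1 m') a' haq' e he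
  have c2 : a * e' = e' * a := h.sd.fr.Qc m m' hmm _ (h.sd.vV m) (h.sd.v1 m) a haq e' he'
  have c3 : a * v m' = v m' * a := h.sd.fr.Qc m m' hmm _ (h.sd.vV m) (h.sd.v1 m) a haq _ (h.sd.vV m')
  have c4 : a'⁻¹ * e = e * a'⁻¹ := ((show Commute a' e from c1).inv_left).eq
  have c5 : a'⁻¹ * e' * a' = v m' * e' := by
    have h1 : a' * (v m' * e') * a'⁻¹ = e' := by
      calc a' * (v m' * e') * a'⁻¹ = (a' * v m') * (a'⁻¹ * (a' * e' * a'⁻¹)) := by group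
        _ = (v m' * a') * (a'⁻¹ * (v m' * e')) := by rw [Fr.KK_comm ha', hae']
        _ = (v m' * v m') * e' := by group
        _ = e' := by rw [h.sd.fr.sq m' _ (h.sd.vV m'), one_mul]
    calc a'⁻¹ * e' * a' = a'⁻¹ * (a' * (v m' * e') * a'⁻¹) * a' := by rw [h1]
      _ = v m' * e' := by group
  have hbx : a * a'⁻¹ * (e * e') * (a * a'⁻¹)⁻¹ = v m * v m' * (e * e') := by
    calc a * a'⁻¹ * (e * e') * (a * a'⁻¹)⁻¹ = a * (a'⁻¹ * e) * e' * a' * a⁻¹ := by group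
      _ = a * e * (a'⁻¹ * e' * a') * a⁻¹ := by rw [c4]; group
      _ = (a * e * a⁻¹) * (a * v m' * a⁻¹) * (a * e' * a⁻¹) := by rw [c5]; group
      _ = v m * e * v m' * e' := by rw [hae, conj_of_comm c3, conj_of_comm c2]
      _ = v m * v m' * (e * e') := by
        rw [mul_assoc (v m), h.sd.fr.comm m m' e he _ (h.sd.vV m')]
        simp only [mul_assoc]
  rcases h.act hb (h.KKc_le hx) with h1 | h1
  · rw [hbx] at h1
    have h2 := mul_eq_right.1 h1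
    have h3 : v m = v m' := by
      have h4 := eq_inv_of_mul_eq_one_left h2
      rwa [inv_eq_of_mul_eq_one_left (h.sd.fr.sq m' _ (h.sd.vV m'))] at h4
    exact hmm (h.sd.v_inj h3).symm
  · rw [hbx] at h1
    have h2 := mul_right_cancel h1
    apply h.c_notCX
    rw [← h2]
    exact mul_mem (h.sd.v_CX hmi) (h.sd.v_CX hmi')

end Sv

end Cfsg.Agent.Omega.IId.Surv

end

section


/-!
# CvBig (ii), `q = 2` (bb OMEGA 21130, helper165): (2), (3)

`St … t` : (SURV) with the element `t`; `Sl … t l` : with the index `l`.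

* `Sd.centre` : an element of `S` which acts on `Ω₁Z(Q)` with commutators in `{1, u}` has `u = v m`;
* `St.exists_l` : `Q^t` moves some `V l`;
* `St.three` : then `v l ^ t = c * v l`, `l ≠ i`, and `v l * y` is centralised by all `W_p`;
* `St.exists_sl`.
-/

set_option autoImplicit false
set_option linter.unusedSectionVars false

namespace Cfsg.Agent.Omega.IId.Surv

open Subgroup Cfsg
open Cfsg.Agent.ZN (o2 zc)
open Cfsg.Agent.MinSimple.VModule (le_o2 le_normalizer_o2 mem_zc o2_isPGroup o2_le normalizer_le_normalizer_zc)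
open Triangle (KK KK_conj KK_le_o2 mem_cent mem_KK mem_zpowers_iff_of_sq cent_conj o2_cent_conj)
open Big (Fr Vo cz qz conj_mem norm_of comm_of_conj conj_of_comm isPGroup_of_sq le_Vo Vo_le cent_of_closure
  norm_o2 le_o2_of sq_of_closure)
open Big.Syl (YY mem_YY YY_le exists_conj_le)

universe u

variable {G : Type u} [Group G]

/-- the centre of an element of `S` acting on `Ω₁Z(Q)` with commutators in `{1, u}` -/
theorem Sd.centre [Finite G] {ι : Type} {S Q : Subgroup G} {V : ι → Subgroup G} {v : ι → G} (h : Sd S Q V v)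
    {s u : G} (hs : s ∈ S) (hu : ∀ z ∈ zc Q, s * z * s⁻¹ = z ∨ s * z * s⁻¹ = u * z)
    (hne : ∃ z ∈ zc Q, s * z * s⁻¹ ≠ z) : ∃ m, u = v m := by
  by_cases hfix : ∀ j, s * v j = v j * s
  · -- `s` normalises all `V j`
    by_contra hcon
    push Not at hcon
    obtain ⟨z, hz, hzs⟩ := hne
    apply hzs
    refine conj_of_comm (h.SY s hs (fun j x hx => ?_) z hz)
    rcases h.fix_act hs (hfix j) hx with h1 | h1
    · exact comm_of_conj h1
    · rcases hu x (h.V_zq j hx) with h2 | h2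
      · exact comm_of_conj h2
      · exact absurd (mul_right_cancel (h2.symm.trans h1)) (hcon j)
  · exfalso
    push Not at hfix
    obtain ⟨j, hj⟩ := hfix
    obtain ⟨j', hj', hvj⟩ := h.perm s hs j
    have hjj : j ≠ j' := by
      rintro rfl
      exact hj (comm_of_conj hvj)
    have h1 : v j' = u * v j := by
      rcases hu (v j) (h.v_zq j) with h1 | h1
      · exact absurd (comm_of_conj h1) hj
      · rw [← hvj, h1]
    obtain ⟨e, he, he1, hve⟩ := h.fr.exists_other (i := j) (v j)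
    have he' := hj' e he
    rcases hu e (h.V_zq j he) with h2 | h2
    · rw [h2] at he'
      exact he1 (h.fr.disj hjj he he')
    · rw [h2] at he'
      have h3 : u = v j' * v j := by
        rw [h1, mul_assoc, h.fr.sq j _ (h.vV j), mul_one]
      rw [h3, mul_assoc, mul_mem_cancel_left (h.vV j')] at he'
      have h4 := h.fr.disj hjj (mul_mem (h.vV j) he) he'
      have h5 := eq_inv_of_mul_eq_one_left h4
      rw [inv_eq_of_mul_eq_one_left (h.fr.sq j e he)] at h5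
      exact hve h5

/-- (SURV) with the element `t` -/
structure St [Finite G] {ι : Type} (S : Sylow 2 G) (Q : Subgroup G) (V : ι → Subgroup G) (v : ι → G) (i : ι)
    (y g₀ t : G) : Prop extends Sv S Q V v i y g₀ where
  tK : t ∈ KK (v i * y)
  tT : t ∉ (S : Subgroup G) ⊓ cz (v i)
  tn : t ∈ normalizer (((S : Subgroup G) ⊓ cz (v i) : Subgroup G) : Set G)
  tt : t * t ∈ (S : Subgroup G) ⊓ cz (v i)

namespace St

variable [Finite G] {ι : Type} {S : Sylow 2 G} {Q : Subgroup G} {V : ι → Subgroup G} {v : ι → G} {i : ι}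
  {y g₀ t : G} (h : St S Q V v i y g₀ t)
include h

theorem tq : t ∈ qz (v i * y) := h.KKc_le h.tK

theorem t_v : t * v i = v i * t := h.qzc_v h.tq

theorem t_y : t * y = y * t := h.qzc_y h.tq

theorem t_c : t * (v i * y) = v i * y * t := (mem_KK.1 h.tK).1

theorem tT1 {x : G} (hx : x ∈ (S : Subgroup G) ⊓ cz (v i)) : t * x * t⁻¹ ∈ (S : Subgroup G) ⊓ cz (v i) :=
  (mem_normalizer_iff.1 h.tn x).1 hx

theorem tT2 {x : G} (hx : x ∈ (S : Subgroup G) ⊓ cz (v i)) : t⁻¹ * x * t ∈ (S : Subgroup G) ⊓ cz (v i) := by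
  have := (mem_normalizer_iff.1 (inv_mem h.tn) x).1 hx
  rwa [inv_inv] at this

/-- the element `κ_q = [t, q]` of `W_c ∩ T` -/
theorem kap {q : G} (hq : q ∈ Q) :
    t * q * t⁻¹ * q⁻¹ ∈ KK (v i * y) ∧ t * q * t⁻¹ * q⁻¹ ∈ (S : Subgroup G) ⊓ cz (v i) := by
  refine ⟨?_, mul_mem (h.tT1 (h.Q_T hq)) (inv_mem (h.Q_T hq))⟩
  have e : t * q * t⁻¹ * q⁻¹ = t * (q * t⁻¹ * q⁻¹) := by group
  rw [e]
  exact mul_mem h.tK (Sv.conjK (h.Q_c hq) (inv_mem h.tK))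

/-- `κ ∈ W_c ∩ T` acts on `V j` as `1` or `x ↦ v j * x` -/
theorem k_act {k : G} (hk : k ∈ KK (v i * y)) (hkT : k ∈ (S : Subgroup G) ⊓ cz (v i)) {j : ι} {x : G}
    (hx : x ∈ V j) : k * x * k⁻¹ = x ∨ k * x * k⁻¹ = v j * x :=
  h.sd.fix_act hkT.1 (h.KT_fix hk hkT j) hx

/-- `Q^t` commutes with `z` ⇒ `z^(t⁻¹) ∈ Ω₁Z(Q)` -/
theorem conj_zq {z : G} (hz : z ∈ zc Q) (hq : ∀ q ∈ Q, t * q * t⁻¹ * z = z * (t * q * t⁻¹)) :
    t⁻¹ * z * t ∈ zc Q := by
  refine h.sd.mem_zq (fun q hqQ => ?_) ?_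
  · have h1 := hq q hqQ
    calc q * (t⁻¹ * z * t) = t⁻¹ * ((t * q * t⁻¹) * z) * t := by group
      _ = t⁻¹ * z * t * q := by rw [h1]; group
  · calc t⁻¹ * z * t * (t⁻¹ * z * t) = t⁻¹ * (z * z) * t := by group
      _ = 1 := by rw [h.sd.zq_sq hz]; group

/-- `Q^t` commutes with `z` if all `κ_q` do -/
theorem conj_zq' {z : G} (hz : z ∈ zc Q) (hq : ∀ q ∈ Q, t * q * t⁻¹ * q⁻¹ * z = z * (t * q * t⁻¹ * q⁻¹)) :
    t⁻¹ * z * t ∈ zc Q := by
  refine h.conj_zq hz fun q hqQ => ?_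
  calc t * q * t⁻¹ * z = (t * q * t⁻¹ * q⁻¹) * (q * z) := by group
    _ = ((t * q * t⁻¹ * q⁻¹) * z) * q := by rw [h.sd.zq_comm hz hqQ]; group
    _ = z * (t * q * t⁻¹) := by rw [hq q hqQ]; group

theorem S_zq {s z : G} (hs : s ∈ (S : Subgroup G)) (hz : z ∈ zc Q) : s * z * s⁻¹ ∈ zc Q :=
  conj_mem (h.sd.SQ.trans (normalizer_le_normalizer_zc Q)) hs hz

/-- `t * z * t⁻¹ ∈ Ω₁Z(Q)` if `t⁻¹ * z * t ∈ Ω₁Z(Q)` -/
theorem swap {z : G} (hz : t⁻¹ * z * t ∈ zc Q) : t * z * t⁻¹ ∈ zc Q := by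
  have h1 := h.S_zq h.tt.1 hz
  have e : t * t * (t⁻¹ * z * t) * (t * t)⁻¹ = t * z * t⁻¹ := by group
  rwa [e] at h1

theorem swap' {z : G} (hz : t * z * t⁻¹ ∈ zc Q) : t⁻¹ * z * t ∈ zc Q := by
  have h1 := h.S_zq (inv_mem h.tt.1) hz
  have e : (t * t)⁻¹ * (t * z * t⁻¹) * (t * t)⁻¹⁻¹ = t⁻¹ * z * t := by group
  rwa [e] at h1

/-- **(2)**: `Q^t` moves some `V l`. -/
theorem exists_l : ∃ q ∈ Q, ∃ l, ∃ e ∈ V l,
    t * q * t⁻¹ * q⁻¹ * e * (t * q * t⁻¹ * q⁻¹)⁻¹ = v l * e := by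
  by_contra hcon
  push Not at hcon
  have h1 : ∀ z ∈ zc Q, t⁻¹ * z * t ∈ zc Q := by
    intro z hz
    refine h.conj_zq' hz fun q hq => ?_
    refine h.sd.SY _ (h.kap hq).2.1 (fun j x hx => ?_) z hz
    rcases h.k_act (h.kap hq).1 (h.kap hq).2 hx with h2 | h2
    · exact comm_of_conj h2
    · exact absurd h2 (hcon q hq j x hx)
  have h1' : ∀ z ∈ zc Q, t * z * t⁻¹ ∈ zc Q := fun z hz => h.swap (h1 z hz)
  -- `t` permutes the `v l`
  have h2 : ∀ l, ∃ m, t * v l * t⁻¹ = v m := by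
    intro l
    obtain ⟨e, he, he1, hve⟩ := h.sd.fr.exists_other (i := l) (v l)
    obtain ⟨a, ha, hae⟩ := h.sd.fr.move (h.sd.vV l) he (h.sd.v1 l) he1 hve
    have haT : a ∈ (S : Subgroup G) ⊓ cz (v i) := by
      refine ⟨h.sd.KS l ha, mem_cent.2 ?_⟩
      by_cases hli : l = i
      · subst hli
        exact Fr.KK_comm ha
      · exact h.sd.fr.Qc l i (Ne.symm hli) _ (h.sd.vV l) (h.sd.v1 l) a
          (h.sd.fr.KK_le_q (h.sd.vV l) (h.sd.v1 l) ha) _ (h.sd.vV i)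
    refine h.sd.centre (s := t * a * t⁻¹) (h.tT1 haT).1 (fun z hz => ?_) ⟨t * e * t⁻¹, h1' e (h.sd.V_zq l he), ?_⟩
    · rcases h.sd.zq_act (h.sd.vV l) (h.sd.v1 l) ha (h1 z hz) with h3 | h3
      · left
        calc t * a * t⁻¹ * z * (t * a * t⁻¹)⁻¹ = t * (a * (t⁻¹ * z * t) * a⁻¹) * t⁻¹ := by group
          _ = z := by rw [h3]; group
      · right
        calc t * a * t⁻¹ * z * (t * a * t⁻¹)⁻¹ = t * (a * (t⁻¹ * z * t) * a⁻¹) * t⁻¹ := by group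
          _ = t * v l * t⁻¹ * z := by rw [h3]; group
    · intro h3
      have h4 : a * e * a⁻¹ = e := by
        calc a * e * a⁻¹ = t⁻¹ * (t * a * t⁻¹ * (t * e * t⁻¹) * (t * a * t⁻¹)⁻¹) * t := by group
          _ = e := by rw [h3]; group
      rw [h4] at hae
      exact h.sd.v1 l (mul_eq_right.1 hae.symm)
  have h3 : t ∈ LL v := by
    refine mem_LL.2 ⟨h2, fun l => ?_⟩
    obtain ⟨m, -, hm⟩ := h.sd.perm (t * t)⁻¹ (inv_mem h.tt.1) l
    obtain ⟨n, hn⟩ := h2 m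
    refine ⟨n, ?_⟩
    calc t⁻¹ * v l * t = t * ((t * t)⁻¹ * v l * (t * t)⁻¹⁻¹) * t⁻¹ := by group
      _ = v n := by rw [hm, hn]
  have hT2 : IsPGroup 2 ((S : Subgroup G) ⊓ cz (v i) : Subgroup G) := S.isPGroup'.to_le inf_le_left
  have hz2 : IsPGroup 2 (zpowers t) := (o2_isPGroup (cz (v i * y))).to_le ((zpowers_le).2 h.tq)
  have h4 := h.sd.kp i (X := zpowers t ⊔ ((S : Subgroup G) ⊓ cz (v i)))
    (IsPGroup.to_sup_of_normal_right' hz2 hT2 ((zpowers_le).2 h.tn))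
    (sup_le ((zpowers_le).2 (mem_cent.2 h.t_v)) inf_le_right) le_sup_right
    (sup_le ((zpowers_le).2 h3) (inf_le_left.trans h.sd.S_LL))
  exact h.tT (h4 (mem_sup_left (mem_zpowers t)))

/-- **(3)** -/
theorem three {q : G} (hq : q ∈ Q) {l : ι} {e : G} (he : e ∈ V l)
    (hke : t * q * t⁻¹ * q⁻¹ * e * (t * q * t⁻¹ * q⁻¹)⁻¹ = v l * e) :
    l ≠ i ∧ t⁻¹ * v l * t = v i * y * v l ∧ ∀ j, v l * y ∈ CX V j := by
  obtain ⟨hk, hkT⟩ := h.kap hq
  have hvl1 := h.sd.v1 l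
  have hvl := h.sd.vV l
  have hli : l ≠ i := by
    rintro rfl
    rw [conj_of_comm (h.KT_V hk hkT he)] at hke
    exact hvl1 (mul_eq_right.1 hke.symm)
  -- LEMMA 1'
  have hti : t⁻¹ * v i = v i * t⁻¹ := ((show Commute t (v i) from h.t_v).inv_left).eq
  have hf : t⁻¹ * e * t ∈ zc (qz (v i)) := by
    have h1 := h.sd.zc_conj hti (h.sd.V_le_zc hli (h.sd.vV i) (h.sd.v1 i) he)
    rwa [inv_inv] at h1
  have hw1 : t⁻¹ * v l * t ≠ 1 := fun h0 => hvl1 (by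
    calc v l = t * (t⁻¹ * v l * t) * t⁻¹ := by group
      _ = 1 := by rw [h0]; group)
  have hQ : ∀ q' ∈ Q, q' * (t⁻¹ * e * t) * q'⁻¹ = t⁻¹ * e * t ∨
      q' * (t⁻¹ * e * t) * q'⁻¹ = t⁻¹ * v l * t * (t⁻¹ * e * t) := by
    intro q' hq'
    have e1 : q' * (t⁻¹ * e * t) * q'⁻¹ = t⁻¹ * ((t * q' * t⁻¹ * q'⁻¹) * (q' * e * q'⁻¹) *
        (t * q' * t⁻¹ * q'⁻¹)⁻¹) * t := by group
    rw [e1, conj_of_comm (h.sd.QV l e he q' hq')]
    rcases h.k_act (h.kap hq').1 (h.kap hq').2 he with h1 | h1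
    · left; rw [h1]
    · right; rw [h1]; group
  have hex : ∃ q' ∈ Q, q' * (t⁻¹ * e * t) * q'⁻¹ = t⁻¹ * v l * t * (t⁻¹ * e * t) := by
    refine ⟨q, hq, ?_⟩
    have e1 : q * (t⁻¹ * e * t) * q⁻¹ = t⁻¹ * ((t * q * t⁻¹ * q⁻¹) * (q * e * q⁻¹) *
        (t * q * t⁻¹ * q⁻¹)⁻¹) * t := by group
    rw [e1, conj_of_comm (h.sd.QV l e he q hq), hke]
    group
  obtain ⟨hwz, hwX⟩ := h.sd.one' hf hw1 hQ hex
  -- `v l ∈ W_c`
  have hvK : v l ∈ KK (v i * y) := by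
    have h1 : v l = (t * q * t⁻¹ * q⁻¹) * (e * (t * q * t⁻¹ * q⁻¹)⁻¹ * e⁻¹) := by
      calc v l = v l * e * e⁻¹ := by group
        _ = _ := by rw [← hke]; group
    rw [h1]
    exact mul_mem hk (Sv.conjK (h.zq_c (h.sd.V_zq l he)) (inv_mem hk))
  have htw : t⁻¹ * v l * t = v i * y * v l := by
    rcases h.act hvK h.tq with h1 | h1
    · exfalso
      have h2 : t⁻¹ * v l * t = v l := by
        rw [mul_assoc, comm_of_conj h1]
        group
      rw [h2] at hwX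
      exact h.sd.v_notCX l (hwX l hli)
    · have h2 : v l * t = v i * y * t * v l := by
        calc v l * t = (v l * t * (v l)⁻¹) * v l := by group
          _ = v i * y * t * v l := by rw [h1]
      calc t⁻¹ * v l * t = t⁻¹ * (v l * t) := by group
        _ = t⁻¹ * ((v i * y * t) * v l) := by rw [h2]
        _ = t⁻¹ * ((t * (v i * y)) * v l) := by rw [h.t_c]
        _ = v i * y * v l := by group
  refine ⟨hli, htw, fun j => ?_⟩
  by_cases hji : j = i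
  · subst hji
    exact mul_mem (h.sd.v_CX hli) h.yX
  · have h1 : v l * y = v i * (t⁻¹ * v l * t) := by
      have h2 : y * v l = v l * y := h.sd.zq_mul_comm h.hy (h.sd.v_zq l)
      rw [htw]
      calc v l * y = y * v l := h2.symm
        _ = (v i * v i) * y * v l := by rw [h.sd.fr.sq i _ (h.sd.vV i), one_mul]
        _ = v i * (v i * y * v l) := by group
    rw [h1]
    exact mul_mem (h.sd.v_CX (Ne.symm hji)) (hwX j hji)

end St

/-- (SURV) with the element `t` and the index `l` -/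
structure Sl [Finite G] {ι : Type} (S : Sylow 2 G) (Q : Subgroup G) (V : ι → Subgroup G) (v : ι → G) (i : ι)
    (y g₀ t : G) (l : ι) : Prop extends St S Q V v i y g₀ t where
  li : l ≠ i
  dX : ∀ j, v l * y ∈ CX V j
  tl : t⁻¹ * v l * t = v i * y * v l
  k0 : ∃ q ∈ Q, ∃ e ∈ V l, t * q * t⁻¹ * q⁻¹ * e * (t * q * t⁻¹ * q⁻¹)⁻¹ = v l * e
  kj : ∀ q ∈ Q, ∀ j, j ≠ l → ∀ x ∈ V j, t * q * t⁻¹ * q⁻¹ * x = x * (t * q * t⁻¹ * q⁻¹)

theorem St.exists_sl [Finite G] {ι : Type} {S : Sylow 2 G} {Q : Subgroup G} {V : ι → Subgroup G} {v : ι → G}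
    {i : ι} {y g₀ t : G} (h : St S Q V v i y g₀ t) : ∃ l, Sl S Q V v i y g₀ t l := by
  obtain ⟨q, hq, l, e, he, hke⟩ := h.exists_l
  obtain ⟨hli, htl, hd⟩ := h.three hq he hke
  refine ⟨l, { h with li := hli, dX := hd, tl := htl, k0 := ⟨q, hq, e, he, hke⟩, kj := ?_ }⟩
  intro q' hq' j hjl x hx
  rcases h.k_act (h.kap hq').1 (h.kap hq').2 hx with h1 | h1
  · exact comm_of_conj h1
  · exfalso
    obtain ⟨-, -, hd'⟩ := h.three hq' hx h1
    have h2 : v l ∈ CX V l := by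
      have h3 : v l = (v l * y) * (v j * y)⁻¹ * v j := by group
      rw [h3]
      exact mul_mem (mul_mem (hd l) (inv_mem (hd' l))) (h.sd.v_CX hjl)
    exact h.sd.v_notCX l h2

end Cfsg.Agent.Omega.IId.Surv

end
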